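import Groth.Agent.Lib.EGA43Top.FibreStalk
import Groth.Agent.Lib.RegLoc.Unramified
import Mathlib.AlgebraicGeometry.Morphisms.Flat
import Mathlib.AlgebraicGeometry.Noetherian
import Mathlib.AlgebraicGeometry.FunctionField

/-!
# Base change along a local homomorphism which is an isomorphism on the closed points
-/

universe u

set_option autoImplicit false
set_option linter.style.haveILetI false
set_option backward.isDefEq.respectTransparency false
set_option backward.isDefEq.respectTransparency.types false

open CategoryTheory CategoryTheory.Limits AlgebraicGeometry IsLocalRing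

namespace Groth.Agent.RegBC19

variable {A A' : CommRingCat.{u}} [IsLocalRing A] [IsLocalRing A'] (φ : A ⟶ A') [IsLocalHom φ.hom]

theorem isPushout_residue (hm : (maximalIdeal A).map φ.hom = maximalIdeal A')
    (hres : Function.Bijective (ResidueField.map φ.hom)) :
    IsPushout φ (CommRingCat.ofHom (residue A))
      (CommRingCat.ofHom ((RingEquiv.ofBijective _ hres).symm.toRingHom.comp (residue A')))
      (𝟙 (CommRingCat.of (ResidueField A))) := by
  let e := RingEquiv.ofBijective _ hres
  have hψ : ∀ a : A, e.symm (residue A' (φ.hom a)) = residue A a := fun a => by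
    apply e.injective
    rw [RingEquiv.apply_symm_apply]
    exact (ResidueField.map_residue φ.hom a).symm
  refine ⟨⟨?_⟩, ⟨PushoutCocone.IsColimit.mk _ (fun s => s.inr) (fun s => ?_) (fun s => Category.id_comp _)
    (fun s d _ h => ?_)⟩⟩
  · ext a
    exact hψ a
  · ext x
    change s.inr.hom (e.symm (residue A' x)) = s.inl.hom x
    have hc : ∀ a : A, s.inl.hom (φ.hom a) = s.inr.hom (residue A a) := fun a =>
      congrArg (fun g : A ⟶ s.pt => g.hom a) s.condition
    have hk : ∀ y ∈ maximalIdeal A', s.inl.hom y = 0 := by
      rw [← hm]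
      intro y hy
      have : (maximalIdeal A).map φ.hom ≤ RingHom.ker s.inl.hom := by
        rw [Ideal.map_le_iff_le_comap]
        intro a ha
        show s.inl.hom (φ.hom a) = 0
        rw [hc, (residue_eq_zero_iff a).2 ha, map_zero]
      exact this hy
    obtain ⟨a, ha⟩ := residue_surjective (e.symm (residue A' x))
    rw [← ha, ← hc, ← sub_eq_zero, ← map_sub]
    refine hk _ ?_
    rw [← residue_eq_zero_iff, map_sub, sub_eq_zero]
    apply e.symm.injective
    rw [hψ, ha]
  · rw [Category.id_comp] at h; exact h

variable {X Y : Scheme.{u}} {f : X ⟶ Spec A} {π : Y ⟶ X} {g : Y ⟶ Spec A'}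

/-- Over a point of the closed fibre the maximal ideal upstairs is generated by the one downstairs. -/
theorem map_maximalIdeal_stalk (hsq : IsPullback π g f (Spec.map φ))
    (hm : (maximalIdeal A).map φ.hom = maximalIdeal A') (hres : Function.Bijective (ResidueField.map φ.hom))
    (y : Y) (hx : f (π y) = closedPoint A) :
    (maximalIdeal (X.presheaf.stalk (π y))).map (π.stalkMap y).hom = maximalIdeal (Y.presheaf.stalk y) := by
  let ι := X.fromSpecResidueField (π y)
  let φx := Spec.preimage (ι ≫ f)
  have hker : ∀ a ∈ maximalIdeal A, φx.hom a = 0 := by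
    intro a ha
    have h1 : (Spec.map φx) (closedPoint (X.residueField (π y))) = closedPoint A := by
      rw [Spec.map_preimage, Scheme.Hom.comp_apply, Scheme.fromSpecResidueField_apply, hx]
    have h2 : (maximalIdeal (X.residueField (π y))).comap φx.hom = maximalIdeal A :=
      congrArg PrimeSpectrum.asIdeal h1
    rw [← h2, Ideal.mem_comap, IsLocalRing.maximalIdeal_eq_bot] at ha
    exact (Ideal.mem_bot).1 ha
  let c : CommRingCat.of (ResidueField A) ⟶ X.residueField (π y) :=
    CommRingCat.ofHom (Ideal.Quotient.lift (maximalIdeal A) φx.hom hker)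
  have hc : CommRingCat.ofHom (residue A) ≫ c = φx := by ext a; rfl
  have key := (isPullback_SpecMap_of_isPushout _ _ _ _ (isPushout_residue φ hm hres)).flip
  have h3 := (IsPullback.of_horiz_isIso (fst := 𝟙 (Spec (X.residueField (π y)))) (snd := Spec.map c)
      (f := Spec.map c) (g := Spec.map (𝟙 (CommRingCat.of (ResidueField A)))) ⟨by simp⟩).paste_vert key
  have hf : Spec.map c ≫ Spec.map (CommRingCat.ofHom (residue A)) = ι ≫ f := by
    rw [← Spec.map_comp, hc, Spec.map_preimage]
  rw [hf] at h3
  have h4 : IsPullback (π.fiberToSpecResidueField (π y)) (π.fiberι (π y) ≫ g) (ι ≫ f) (Spec.map φ) :=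
    (IsPullback.of_hasPullback π ι).flip.paste_vert hsq
  haveI : IsIso (π.fiberToSpecResidueField (π y)) := by
    have := (h4.isoIsPullback _ _ h3)
    have e : π.fiberToSpecResidueField (π y) = (h4.isoIsPullback _ _ h3).hom := by
      rw [← Category.comp_id (h4.isoIsPullback _ _ h3).hom]
      exact (h4.isoIsPullback_hom_fst _ _ h3).symm
    rw [e]; infer_instance
  obtain ⟨z, hz⟩ : ∃ z, π.fiberι (π y) z = y := ⟨π.asFiber y, π.fiberι_asFiber y⟩
  obtain ⟨e, -⟩ := EGA43Top.exists_ringEquiv_fiber_stalk π (π y) z
  have hF : IsField ((π.fiber (π y)).presheaf.stalk z) := by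
    let j := π.fiberToSpecResidueField (π y)
    refine (asIso (j.stalkMap z)).commRingCatIsoToRingEquiv.symm.toMulEquiv.isField ?_
    haveI : IrreducibleSpace ↥(Spec (X.residueField (π y))) := inferInstance
    suffices hmem : closure ({j z} : Set ↥(Spec (X.residueField (π y)))) ∈
        irreducibleComponents ↥(Spec (X.residueField (π y))) by
      exact @isField_stalk_of_closure_mem_irreducibleComponents (Spec (X.residueField (π y))) (j z) hmem inferInstance
    have huniv : closure ({j z} : Set ↥(Spec (X.residueField (π y)))) = Set.univ :=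
      Set.eq_univ_of_forall fun w => by rw [Subsingleton.elim w (j z)]; exact subset_closure rfl
    rw [huniv, irreducibleComponents_eq_singleton]
    exact rfl
  generalize hw : π.fiberι (π y) z = w at e
  rw [hz] at hw
  subst hw
  exact eq_maximalIdeal (Ideal.Quotient.maximal_of_isField _ (e.toMulEquiv.isField hF))

theorem isRegularLocalRing_iff [IsLocallyNoetherian X] [IsLocallyNoetherian Y] [Flat (Spec.map φ)]
    (hsq : IsPullback π g f (Spec.map φ))
    (hm : (maximalIdeal A).map φ.hom = maximalIdeal A') (hres : Function.Bijective (ResidueField.map φ.hom))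
    (y : Y) (hy : g y = closedPoint A') :
    IsRegularLocalRing (Y.presheaf.stalk y) ↔ IsRegularLocalRing (X.presheaf.stalk (π y)) := by
  have hx : f (π y) = closedPoint A := by
    rw [← Scheme.Hom.comp_apply, hsq.w, Scheme.Hom.comp_apply, hy]
    exact IsLocalRing.comap_closedPoint φ.hom
  haveI : Flat π := MorphismProperty.of_isPullback (P := @Flat) hsq.flip ‹_›
  letI := (π.stalkMap y).hom.toAlgebra
  haveI : Module.Flat (X.presheaf.stalk (π y)) (Y.presheaf.stalk y) := Flat.stalkMap π y
  haveI : IsLocalHom (algebraMap (X.presheaf.stalk (π y)) (Y.presheaf.stalk y)) :=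
    inferInstanceAs (IsLocalHom (π.stalkMap y).hom)
  exact (RegLoc.isRegularLocalRing_iff_of_map_maximalIdeal
    (map_maximalIdeal_stalk φ hsq hm hres y hx)).symm

end Groth.Agent.RegBC19
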