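import Groth.Agent.Lib.RegBC19.Basic

/-!
# Truncated local rings do not change along a base change which is an isomorphism on truncations
-/

universe u

set_option autoImplicit false
set_option linter.style.haveILetI false
set_option backward.isDefEq.respectTransparency false
set_option backward.isDefEq.respectTransparency.types false

open CategoryTheory CategoryTheory.Limits AlgebraicGeometry IsLocalRing

namespace Groth.Agent.RegBC19

variable {A A' : CommRingCat.{u}} [IsLocalRing A] [IsLocalRing A'] (φ : A ⟶ A') [IsLocalHom φ.hom]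
variable {X Y : Scheme.{u}} {f : X ⟶ Spec A} {π : Y ⟶ X} {g : Y ⟶ Spec A'}

theorem bijective_quotientMap_stalk (hsq : IsPullback π g f (Spec.map φ))
    (hm : (maximalIdeal A).map φ.hom = maximalIdeal A') (hres : Function.Bijective (ResidueField.map φ.hom))
    (n : ℕ) (hn : n ≠ 0) (e : A' →+* A ⧸ maximalIdeal A ^ n) (he : ∀ a, e (φ.hom a) = Ideal.Quotient.mk _ a)
    (y : Y) (hx : f (π y) = closedPoint A)
    (h : maximalIdeal (X.presheaf.stalk (π y)) ^ n ≤
      (maximalIdeal (Y.presheaf.stalk y) ^ n).comap (π.stalkMap y).hom) :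
    Function.Bijective (Ideal.quotientMap (maximalIdeal (Y.presheaf.stalk y) ^ n) (π.stalkMap y).hom h) := by
  let m := maximalIdeal (X.presheaf.stalk (π y))
  let R := X.presheaf.stalk (π y) ⧸ m ^ n
  let ρ : X.presheaf.stalk (π y) ⟶ CommRingCat.of R := CommRingCat.ofHom (Ideal.Quotient.mk _)
  haveI : Nontrivial R := Ideal.Quotient.nontrivial_iff.2 fun hb =>
    (maximalIdeal.isMaximal (X.presheaf.stalk (π y))).ne_top (top_le_iff.1 (hb ▸ Ideal.pow_le_self hn))
  haveI : IsLocalRing (CommRingCat.of R) :=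
    IsLocalRing.of_surjective' (Ideal.Quotient.mk (m ^ n)) Ideal.Quotient.mk_surjective
  let ψ := Spec.preimage (X.fromSpecStalk (π y) ≫ f)
  have hψ : ∀ a ∈ maximalIdeal A, ψ.hom a ∈ m := by
    intro a ha
    have h1 : (Spec.map ψ) (closedPoint (X.presheaf.stalk (π y))) = closedPoint A := by
      rw [Spec.map_preimage, Scheme.Hom.comp_apply, Scheme.fromSpecStalk_closedPoint, hx]
    have h2 : m.comap ψ.hom = maximalIdeal A := congrArg PrimeSpectrum.asIdeal h1
    rw [← h2, Ideal.mem_comap] at ha
    exact ha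
  have hψn : maximalIdeal A ^ n ≤ (m ^ n).comap ψ.hom := by
    rw [← Ideal.map_le_iff_le_comap, Ideal.map_pow]
    exact Ideal.pow_right_mono (Ideal.map_le_iff_le_comap.2 hψ) n
  let e' : A' ⟶ CommRingCat.of R := CommRingCat.ofHom ((Ideal.quotientMap (m ^ n) ψ.hom hψn).comp e)
  have he' : φ ≫ e' = ψ ≫ ρ := by
    ext a
    show Ideal.quotientMap (m ^ n) ψ.hom hψn (e (φ.hom a)) = _
    rw [he, Ideal.quotientMap_mk]
    rfl
  let s : Spec (CommRingCat.of R) ⟶ Y := hsq.lift (Spec.map ρ ≫ X.fromSpecStalk (π y)) (Spec.map e') (by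
    rw [Category.assoc, ← Spec.map_preimage (X.fromSpecStalk (π y) ≫ f), ← Spec.map_comp, ← Spec.map_comp, he'])
  -- the residue field of `y`
  let κ := Y.residueField y
  have hlift : ∀ a ∈ m ^ n, (π.stalkMap y ≫ Y.residue y).hom a = 0 := fun a ha => by
    have h1 : a ∈ m := Ideal.pow_le_self hn ha
    show residue _ ((π.stalkMap y).hom a) = 0
    rw [residue_eq_zero_iff]
    exact fun hu => h1 (isUnit_of_map_unit (π.stalkMap y).hom a hu)
  let η : CommRingCat.of R ⟶ κ := CommRingCat.ofHom (Ideal.Quotient.lift (m ^ n) _ hlift)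
  have hη : ρ ≫ η = π.stalkMap y ≫ Y.residue y := by ext a; rfl
  let t : Spec κ ⟶ Y := Spec.map (Y.residue y) ≫ Y.fromSpecStalk y
  have ht : Spec.map η ≫ s = t := by
    refine hsq.hom_ext ?_ ?_
    · rw [Category.assoc, hsq.lift_fst, ← Spec.map_comp_assoc, hη, Spec.map_comp_assoc,
        Scheme.SpecMap_stalkMap_fromSpecStalk, Category.assoc]
    · rw [Category.assoc, hsq.lift_snd, ← Spec.map_comp]
      have hA : φ ≫ (e' ≫ η) = φ ≫ Spec.preimage (t ≫ g) := by
        apply Spec.map_injective
        rw [← Category.assoc φ, he', Category.assoc, hη, Spec.map_comp, Spec.map_comp φ, Spec.map_preimage,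
          Spec.map_preimage, Category.assoc, ← hsq.w]
        simp only [t, Category.assoc]
        rw [Spec.map_comp, Category.assoc, Scheme.SpecMap_stalkMap_fromSpecStalk_assoc]
      have hall : e' ≫ η = Spec.preimage (t ≫ g) := by
        ext a
        obtain ⟨b, hb⟩ := hres.2 (residue A' a)
        obtain ⟨b, rfl⟩ := residue_surjective b
        have hd : a - φ.hom b ∈ maximalIdeal A' := by
          rw [← residue_eq_zero_iff, map_sub, ← ResidueField.map_residue φ.hom b, hb, sub_self]
        rw [← hm] at hd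
        have hkill : ∀ (k : A' ⟶ κ), φ ≫ k = φ ≫ (e' ≫ η) → k.hom (a - φ.hom b) = 0 := by
          intro k hk
          have : (maximalIdeal A).map φ.hom ≤ RingHom.ker k.hom := by
            rw [Ideal.map_le_iff_le_comap]
            intro c hc
            show (φ ≫ k).hom c = 0
            rw [hk, ← Category.assoc, he', Category.assoc, hη]
            show residue _ ((π.stalkMap y).hom (ψ.hom c)) = 0
            rw [residue_eq_zero_iff]
            exact fun hu => hψ c hc (isUnit_of_map_unit (π.stalkMap y).hom _ hu)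
          exact this hd
        have hb' := congrArg (fun k : A ⟶ κ => k.hom b) hA
        have h1 := hkill _ rfl
        have h2 := hkill _ hA.symm
        rw [map_sub, sub_eq_zero] at h1 h2
        rw [h1, h2]
        exact hb'
      rw [hall, Spec.map_preimage]
  have hsing : ∀ p q : Spec (CommRingCat.of R), p = q := by
    suffices hall : ∀ p : Spec (CommRingCat.of R), p.asIdeal = maximalIdeal R from
      fun p q => PrimeSpectrum.ext ((hall p).trans (hall q).symm)
    intro p
    refine le_antisymm (le_maximalIdeal p.isPrime.ne_top) fun z hz => ?_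
    obtain ⟨z, rfl⟩ := Ideal.Quotient.mk_surjective z
    have hzm : z ∈ m := fun hu => hz (hu.map _)
    refine Ideal.IsPrime.mem_of_pow_mem p.isPrime n ?_
    rw [← map_pow, Ideal.Quotient.eq_zero_iff_mem.2 (Ideal.pow_mem_pow hzm n)]
    exact p.asIdeal.zero_mem
  have hpt : s (closedPoint (CommRingCat.of R)) = y := by
    have h1 := congrArg (fun q : Spec κ ⟶ Y => q (closedPoint κ)) ht
    simp only [t, Scheme.Hom.comp_apply] at h1
    rw [hsing (closedPoint (CommRingCat.of R)) ((Spec.map η) (closedPoint κ)), h1]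
    refine Eq.trans (congrArg (Y.fromSpecStalk y) (PrimeSpectrum.ext ?_)) Scheme.fromSpecStalk_closedPoint
    show Ideal.comap (Y.residue y).hom (maximalIdeal κ) = maximalIdeal (Y.presheaf.stalk y)
    rw [IsLocalRing.maximalIdeal_eq_bot]
    exact IsLocalRing.ker_residue (R := Y.presheaf.stalk y)
  obtain ⟨r, hr⟩ : ∃ r : Y.presheaf.stalk y ⟶ CommRingCat.of R, Spec.map r ≫ Y.fromSpecStalk y = s := by
    have gen : ∀ y', s (closedPoint (CommRingCat.of R)) = y' →
        ∃ r : Y.presheaf.stalk y' ⟶ CommRingCat.of R, Spec.map r ≫ Y.fromSpecStalk y' = s := by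
      rintro _ rfl
      exact ⟨_, Scheme.Spec_stalkClosedPointTo_fromSpecStalk s⟩
    exact gen y hpt
  have hρ : π.stalkMap y ≫ r = ρ := by
    apply Spec.map_injective
    rw [← cancel_mono (X.fromSpecStalk (π y)), Spec.map_comp_assoc, Scheme.SpecMap_stalkMap_fromSpecStalk,
      reassoc_of% hr, hsq.lift_fst]
  have hres' : r ≫ η = Y.residue y := by
    apply Spec.map_injective
    rw [← cancel_mono (Y.fromSpecStalk y), Spec.map_comp_assoc, hr, ht]
  have hmy : (maximalIdeal (X.presheaf.stalk (π y))).map (π.stalkMap y).hom = maximalIdeal (Y.presheaf.stalk y) :=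
    map_maximalIdeal_stalk φ hsq hm hres y hx
  constructor
  · rw [injective_iff_map_eq_zero]
    intro a ha
    obtain ⟨a, rfl⟩ := Ideal.Quotient.mk_surjective a
    rw [Ideal.quotientMap_mk, Ideal.Quotient.eq_zero_iff_mem, ← hmy, ← Ideal.map_pow] at ha
    have h1 : ((maximalIdeal (X.presheaf.stalk (π y))) ^ n).map (π.stalkMap y).hom ≤ RingHom.ker r.hom := by
      rw [Ideal.map_le_iff_le_comap]
      intro c hc
      show (π.stalkMap y ≫ r).hom c = 0
      rw [hρ]
      exact Ideal.Quotient.eq_zero_iff_mem.2 hc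
    have h2 : (π.stalkMap y ≫ r).hom a = 0 := h1 ha
    rw [hρ] at h2
    exact h2
  · have hsurj : ∀ z : Y.presheaf.stalk y, ∃ a, z - (π.stalkMap y).hom a ∈ maximalIdeal (Y.presheaf.stalk y) := by
      intro z
      obtain ⟨a, ha⟩ := Ideal.Quotient.mk_surjective (r.hom z)
      refine ⟨a, ?_⟩
      rw [← residue_eq_zero_iff, map_sub, sub_eq_zero]
      have h1 : (Y.residue y).hom z = η.hom (r.hom z) :=
        (congrArg (fun q : Y.presheaf.stalk y ⟶ κ => q.hom z) hres').symm
      have h2 : (Y.residue y).hom ((π.stalkMap y).hom a) = η.hom (Ideal.Quotient.mk _ a) := rfl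
      exact h1.trans ((congrArg η.hom ha.symm).trans h2.symm)
    have key : ∀ k : ℕ, ∀ z, ∃ a, z - (π.stalkMap y).hom a ∈ maximalIdeal (Y.presheaf.stalk y) ^ k := by
      intro k
      induction k with
      | zero => exact fun z => ⟨0, by rw [pow_zero, Ideal.one_eq_top]; exact Submodule.mem_top⟩
      | succ k ih =>
        intro z
        obtain ⟨a, ha⟩ := ih z
        suffices ∀ w, w ∈ maximalIdeal (Y.presheaf.stalk y) ^ k →
            ∃ b, w - (π.stalkMap y).hom b ∈ maximalIdeal (Y.presheaf.stalk y) ^ (k + 1) by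
          obtain ⟨b, hb⟩ := this _ ha
          exact ⟨a + b, by rw [map_add, ← sub_sub]; exact hb⟩
        intro w hw
        rw [← hmy, ← Ideal.map_pow] at hw
        induction hw using Submodule.span_induction with
        | mem x hx =>
          obtain ⟨c, -, rfl⟩ := hx
          exact ⟨c, by rw [sub_self]; exact Submodule.zero_mem _⟩
        | zero => exact ⟨0, by rw [map_zero, sub_zero]; exact Submodule.zero_mem _⟩
        | add x x' _ _ hx hx' =>
          obtain ⟨b, hb⟩ := hx
          obtain ⟨b', hb'⟩ := hx'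
          exact ⟨b + b', by rw [map_add, add_sub_add_comm]; exact Ideal.add_mem _ hb hb'⟩
        | smul c x hxk hx =>
          obtain ⟨b, hb⟩ := hx
          obtain ⟨c₀, hc₀⟩ := hsurj c
          refine ⟨c₀ * b, ?_⟩
          have hxm : x ∈ maximalIdeal (Y.presheaf.stalk y) ^ k := by
            rw [← hmy, ← Ideal.map_pow]
            exact hxk
          have e1 : c • x - (π.stalkMap y).hom (c₀ * b) =
              (c - (π.stalkMap y).hom c₀) * x + (π.stalkMap y).hom c₀ * (x - (π.stalkMap y).hom b) := by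
            rw [map_mul, smul_eq_mul, sub_mul, mul_sub, sub_add_sub_cancel]
          rw [e1]
          refine Ideal.add_mem _ ?_ (Ideal.mul_mem_left _ _ hb)
          rw [pow_succ']
          exact Ideal.mul_mem_mul hc₀ hxm
    intro z
    obtain ⟨z, rfl⟩ := Ideal.Quotient.mk_surjective z
    obtain ⟨a, ha⟩ := key n z
    exact ⟨Ideal.Quotient.mk _ a, by
      rw [Ideal.quotientMap_mk, eq_comm, Ideal.Quotient.mk_eq_mk_iff_sub_mem]; exact ha⟩

end Groth.Agent.RegBC19
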